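import Cfsg.Agent.GAL.TS.Weil
import Cfsg.Agent.GAL.Nrm.Box
import Cfsg.Agent.GAL.Odd.Gen
import Cfsg.Agent.ODD.C3.MDiag
import Cfsg.Agent.ODD.PW.Rows

/-!
# S4617 / S4618: the character side for `L₂(q)` and `PSp_{2m}(q)`, `q` odd (helper71, GAL)

* `Act δ` : `σ` acts on the irreducible characters of odd degree as `δ`;
* `act_psl`, `act_psp1` (`q ≡ 1 mod 4`), the box `C3G` (`q ≡ 3 mod 4`);
* `psl3`, `fg_psl2`, `psp1_of`, `psp3_of` : the rows of `GAL.Nrm.OddSide`.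
-/

set_option autoImplicit false

namespace Cfsg.Agent.GAL.TS

open Cfsg Cfsg.Agent.TAB.Use Cfsg.Agent.ODD.Red Cfsg.Agent.H601.K4 Cfsg.Agent.GAL.Nrm Cfsg.Agent.ODD.C3
  Cfsg.Agent.ODD.PS Cfsg.Agent.ODD.PS.C3 Cfsg.Agent.H670 Cfsg.Agent.Nodes Cfsg.Agent.TitsThree

universe u v

section gen

variable {S : Type u} {T : Type v} [Group S] [Group T]

/-- `σ` acts on the irreducible characters of odd degree as `δ` -/
def Act (δ : MulAut S) : Prop := ∀ θ : S → ℂ, OddIrr θ → ∀ σ, Sig σ → ∀ s, θ (δ s) = σ (θ s)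

theorem Act.oddSig {δ : MulAut S} (h : Act δ) (hδ : Inner δ) : OddSig S := by
  obtain ⟨t, rfl⟩ := hδ
  intro χ h1 h2 σ hσ s
  rw [← h χ ⟨h1, odd_iff'.1 h2⟩ σ hσ s]
  exact Characters.Core.isIrr_isClassFunction h1 s t

theorem oddSig_of_surj {f : S →* T} (hf : Function.Surjective f) (h : OddSig S) : OddSig T := by
  intro χ h1 h2 σ hσ s
  obtain ⟨g, rfl⟩ := hf s
  have h3 := oddIrr_comp hf (θ := χ) ⟨h1, odd_iff'.1 h2⟩
  exact h _ h3.1 (odd_iff'.2 h3.2) σ hσ g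

theorem Act.congr (e : S ≃* T) {δ : MulAut T} (h : Act δ) : Act (MulAut.congr e.symm δ) := by
  intro θ h1 σ hσ s
  have h2 := h (fun t => θ (e.symm t)) (oddIrr_comp (f := e.symm.toMonoidHom) e.symm.surjective h1) σ hσ (e s)
  simpa [MulAut.congr] using h2

theorem inner_congr (e : S ≃* T) {δ : MulAut T} (h : Inner δ) : Inner (MulAut.congr e.symm δ) := by
  obtain ⟨t, rfl⟩ := h
  refine ⟨e.symm t, MulEquiv.ext fun s => ?_⟩
  simp [MulAut.congr]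

theorem exc_of (e : S ≃* T) (hM : OddMoved T) {δ : MulAut T} (h2 : Inner (δ * δ)) (h : Act δ) : Exc S :=
  ⟨moved_of_surj (f := e.toMonoidHom) e.surjective hM, MulAut.congr e.symm δ,
    ⟨1, by rw [pow_one, pow_two, ← map_mul]; exact inner_congr e h2⟩,
    fd_of_map fun θ h1 _ => h.congr e θ h1⟩

end gen

variable {F : Type} [Field F]

/-! ### `L₂(q)` -/

theorem d2_sq (u : Fˣ) (g : S2 F) : d2 (u * u) g = SL2.tor u * g * (SL2.tor u)⁻¹ := by
  rw [eq_mul_inv_iff_mul_eq]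
  have h1 := u.mul_inv
  have a0 : SL2.e00 (SL2.tor u) = u := rfl
  have a1 : SL2.e01 (SL2.tor u) = 0 := rfl
  have a2 : SL2.e10 (SL2.tor u) = 0 := rfl
  have a3 : SL2.e11 (SL2.tor u) = (u⁻¹ : Fˣ) := rfl
  refine SL2.ext4 ?_ ?_ ?_ ?_
  · rw [SL2.mul00, SL2.mul00, d2_00, d2_01, a0, a1, a2]
    ring
  · rw [SL2.mul01, SL2.mul01, d2_00, d2_01, a0, a1, a3, Units.val_mul]
    linear_combination (u * SL2.e01 g) * h1
  · rw [SL2.mul10, SL2.mul10, d2_10, d2_11, a0, a2, a3, mul_inv, Units.val_mul]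
    linear_combination ((u⁻¹ : Fˣ) * SL2.e10 g) * h1
  · rw [SL2.mul11, SL2.mul11, d2_10, d2_11, a1, a2, a3]
    ring

theorem d2_center (c : Fˣ) {g : S2 F} (hg : g ∈ Subgroup.center (S2 F)) : d2 c g = g := by
  obtain ⟨r, -, hr⟩ := Matrix.SpecialLinearGroup.mem_center_iff.1 hg
  have h1 : SL2.e01 g = 0 := by
    show g.1 0 1 = 0
    rw [← hr]
    simp
  have h2 : SL2.e10 g = 0 := by
    show g.1 1 0 = 0
    rw [← hr]
    simp
  exact SL2.ext4 rfl (by rw [d2_01, h1, mul_zero]) (by rw [d2_10, h2, mul_zero]) rfl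

/-- the diagonal automorphism of `L₂(q)` -/
noncomputable def dL (c : Fˣ) : MulAut (Matrix.ProjectiveSpecialLinearGroup (Fin 2) F) :=
  indAut (QuotientGroup.mk' (Subgroup.center (S2 F))) (QuotientGroup.mk'_surjective _) (d2 c)
    fun _ hg => d2_center c ((QuotientGroup.eq_one_iff _).1 hg)

theorem dL_mk (c : Fˣ) (g : S2 F) :
    dL c (QuotientGroup.mk' (Subgroup.center (S2 F)) g) = QuotientGroup.mk' (Subgroup.center (S2 F)) (d2 c g) :=
  indAut_apply _ _ _ _ g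

theorem dL_mul (c c' : Fˣ) : dL c * dL c' = dL (c * c') := by
  refine MulEquiv.ext fun s => ?_
  obtain ⟨g, rfl⟩ := QuotientGroup.mk'_surjective (Subgroup.center (S2 F)) s
  rw [MulAut.mul_apply, dL_mk, dL_mk, dL_mk]
  exact congrArg _ (d2f_d2f c c' g)

theorem dL_inner {c : Fˣ} (h : IsSquare c) : Inner (dL c) := by
  obtain ⟨u, rfl⟩ := h
  refine ⟨QuotientGroup.mk' (Subgroup.center (S2 F)) (SL2.tor u), MulEquiv.ext fun s => ?_⟩
  obtain ⟨g, rfl⟩ := QuotientGroup.mk'_surjective (Subgroup.center (S2 F)) s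
  rw [dL_mk, d2_sq, map_mul, map_mul, map_inv]
  rfl

/-- the unit `2` -/
def two (h2 : (2 : F) ≠ 0) : Fˣ := Units.mk0 2 h2

theorem two_val (h2 : (2 : F) ≠ 0) : (two h2 : F) = (2 : ℕ) := Nat.cast_ofNat.symm

theorem two_sq (h2 : (2 : F) ≠ 0) (h : IsSquare (2 : F)) : IsSquare (two h2) := by
  obtain ⟨r, hr⟩ := h
  have h0 : r ≠ 0 := by
    rintro rfl
    exact h2 (by rw [hr, mul_zero])
  exact ⟨Units.mk0 r h0, Units.ext hr⟩

variable [Fintype F]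

theorem sq_of (h8 : Fintype.card F % 8 = 1 ∨ Fintype.card F % 8 = 7) : IsSquare (2 : F) := by
  rw [FiniteField.isSquare_two_iff]
  omega

theorem act_sl (h2 : (2 : F) ≠ 0) : Act (S := S2 F) (d2 (two h2)) := fun _ h1 _ hσ s =>
  S2.map_eq_comp (odd_card h2) (k := 2) (fun z hz => hσ.2 _ z (odd_card h2) hz) _
    (fun r => by rw [d2_x, two_val]) h1.1 (odd_iff'.2 h1.2) s

theorem act_psl (h2 : (2 : F) ≠ 0) : Act (dL (two h2)) := by
  intro θ h1 σ hσ s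
  obtain ⟨g, rfl⟩ := QuotientGroup.mk'_surjective (Subgroup.center (S2 F)) s
  rw [dL_mk]
  exact act_sl h2 _ (oddIrr_comp (QuotientGroup.mk'_surjective (Subgroup.center (S2 F))) h1) σ hσ g

/-- **`L₂(q)`, `q ≡ ±1 mod 8`** -/
theorem oddSig_psl2 (h8 : Fintype.card F % 8 = 1 ∨ Fintype.card F % 8 = 7) :
    OddSig (Matrix.ProjectiveSpecialLinearGroup (Fin 2) F) := by
  have h2 : (2 : F) ≠ 0 := two_ne_of_odd (by rw [Nat.odd_iff]; omega)
  exact (act_psl h2).oddSig (dL_inner (two_sq h2 (sq_of h8)))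

theorem fg_psl2 {S : Type u} [Group S] (h8 : Fintype.card F % 8 = 1 ∨ Fintype.card F % 8 = 7)
    (e : S ≃* Matrix.ProjectiveSpecialLinearGroup (Fin 2) F) : FG S :=
  fg_of_oddSig (oddSig_of_surj (f := e.symm.toMonoidHom) e.symm.surjective (oddSig_psl2 h8))

/-- **`L₂(q)`, `q ≡ ±3 mod 8`** -/
theorem psl3 : RowP Psl3 fun S _ => Exc S := by
  rintro S _ _ _ ⟨F, _, _, h8, h4, ⟨e⟩⟩
  have h2 : (2 : F) ≠ 0 := two_ne_of_odd (by rw [Nat.odd_iff]; omega)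
  exact exc_of e (moved_psl h8 h4) (by rw [dL_mul]; exact dL_inner ⟨_, rfl⟩) (act_psl h2)

/-- the row `psl1` from the groups of degree at least three -/
theorem psl1_of (h : ∀ (S : Type) [Group S] [Finite S] [IsSimpleGroup S] (F : Type) [Field F] [Fintype F] (n : ℕ),
    Odd (Fintype.card F) → 3 ≤ n → (S ≃* Matrix.ProjectiveSpecialLinearGroup (Fin n) F) → FG S) :
    RowP Psl1 fun S _ => FG S := by
  rintro S _ _ _ ⟨F, _, _, n, h1, h2, h3, ⟨e⟩⟩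
  by_cases hn : n = 2
  · subst hn
    exact fg_psl2 (h3 rfl) e
  · exact h S F n h1 (by omega) e

/-! ### `PSp_{2m}(q)` -/

omit [Fintype F] in
theorem dR_inner (k : ℕ) {c : Fˣ} (h : IsSquare c) : Inner (S := PSp k F) (dR k c) := by
  obtain ⟨t, -, ht⟩ := del_inner (fun i : Fin k => c ^ (k - i)) c h
  exact ⟨t, MulEquiv.ext ht⟩

omit [Fintype F] in
theorem dR_sq (k : ℕ) (c : Fˣ) : Inner (S := PSp k F) (dR k c * dR k c) := by
  obtain ⟨t, -, ht⟩ := del_sq (fun i : Fin k => c ^ (k - i)) c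
  exact ⟨t, MulEquiv.ext ht⟩

theorem diag_dR (h2 : (2 : F) ≠ 0) (k p : ℕ) [Fact p.Prime] [CharP F p] {W : Type} [Group W] [Finite W]
    (cs : CoxeterSystem (CoxeterMatrix.B k) W) : Odd.Diag (rgdS k F p cs) (dR k (two h2)) where
  fixT := del_T _ _
  mapX a _ _ hx := del_X _ _ a hx
  mapN := del_n _ _
  sq i f _ hx hx' := Odd.sq_of_eq f hx hx' (by rw [dR_simple (two_val h2) i hx, pow_two])

attribute [local instance] ODD.PW.finB in
/-- `q ≡ 1 mod 4` -/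
theorem act_psp1 (h2 : (2 : F) ≠ 0) {m : ℕ} (hm : 2 ≤ m) (h4 : Fintype.card F % 4 = 1) :
    Act (S := PSp m F) (dR m (two h2)) := by
  obtain ⟨n, rfl⟩ : ∃ n, m = n + 2 := ⟨m - 2, by omega⟩
  obtain ⟨p, _, _, hp2, -⟩ := ODD.PW.exists_char F (odd_card h2)
  have o := ODD.PW.out_psp F n p
  obtain ⟨_, _, _, C⟩ := o.cor
  intro θ h1 σ hσ s
  obtain ⟨lam, h3, h5⟩ := exists_lam (rgdS (n + 2) F p (CoxeterMatrix.B (n + 2)).toCoxeterSystem)
    (ODD.PW.topC (KInstSp.model (n + 2) F)) C.comm (ODD.PW.nofix_psp F n h4) h1.1 (odd_iff'.2 h1.2)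
  refine (diag_dR h2 (n + 2) p _).map_eq Fact.out hp2 (ODD.PW.topC _) C.comm hσ
    (fun t => fix_of_sq (o.sq lam h5 t)) (fun w hw => ?_) h1.1 h3 s
  rw [← pow_two]
  exact C.pow_mem_self two_pos (o.sq lam h5) hw

/-- the box for `q ≡ 3 mod 4` -/
def C3G : Prop :=
  ∀ (F : Type) [Field F] [Fintype F] (h2 : (2 : F) ≠ 0) (m : ℕ), 2 ≤ m → Fintype.card F % 4 = 3 →
    Act (S := PSp m F) (dR m (two h2))

theorem act_psp (H : C3G) (h2 : (2 : F) ≠ 0) {m : ℕ} (hm : 2 ≤ m) : Act (S := PSp m F) (dR m (two h2)) := by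
  have h1 := Nat.odd_iff.1 (odd_card h2)
  by_cases h4 : Fintype.card F % 4 = 1
  · exact act_psp1 h2 hm h4
  · exact H F h2 m hm (by omega)

theorem psp1_of (H : C3G) : RowP Psp1 fun S _ => FG S := by
  rintro S _ _ _ ⟨F, _, _, m, h8, hm, ⟨e⟩⟩
  have h2 : (2 : F) ≠ 0 := two_ne_of_odd (by rw [Nat.odd_iff]; omega)
  exact fg_of_oddSig (oddSig_of_surj (f := e.symm.toMonoidHom) e.symm.surjective
    ((act_psp H h2 hm).oddSig (dR_inner m (two_sq h2 (sq_of h8)))))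

theorem psp3_of (H : C3G) : RowP Psp3 fun S _ => Exc S := by
  rintro S _ _ _ ⟨F, _, _, m, h8, hm, ⟨e⟩⟩
  have h2 : (2 : F) ≠ 0 := two_ne_of_odd (by rw [Nat.odd_iff]; omega)
  exact exc_of e (moved_psp h8 hm) (dR_sq m _) (act_psp H h2 hm)

theorem rowG_psp_of (H : C3G) : RowG ODD.PspO := rowG_psp (psp1_of H) (psp3_of H)

end Cfsg.Agent.GAL.TS
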