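import Cfsg.Agent.GAL.TS.Main
import Cfsg.Agent.GAL.TA.SL

/-!
# S4617 / S4618: the row of `PSL_n(q)`, `q` odd (helper71, GAL)
-/

set_option autoImplicit false

namespace Cfsg.Agent.GAL.TS

open Cfsg Cfsg.Agent.GAL.Nrm

theorem psl1 : RowP Psl1 fun S _ => FG S := psl1_of fun _ _ _ _ _ _ _ _ h1 h2 e => TA.fg_psl h1 h2 e

/-- **`PSL_n(q)`, `q` odd** -/
theorem rowG_pslO : RowG ODD.PslO := rowG_psl psl1 psl3

end Cfsg.Agent.GAL.TS
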