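import Cfsg.Agent.GAL.Tools
import Cfsg.Agent.H162.WeilIrr
import Cfsg.Agent.H774.OQ.Psl2
import Cfsg.Agent.H451.Tor.Rows
import Cfsg.Agent.LieClassical.SympPerfect
import Cfsg.Agent.ClassicalGeometry.SympInvolutions

/-!
# S4617 / S4618: a Weil character of odd degree is moved by `σ` if `2` is not a square (helper71, GAL)
-/

set_option autoImplicit false

namespace Cfsg.Agent.GAL.TS

open Cfsg Cfsg.Agent.TAB.Use Cfsg.Agent.ODD.Red Cfsg.Agent.H162.Weil Cfsg.Agent.Characters Module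

universe u v

theorem moved_of_surj {G : Type u} {H : Type v} [Group G] [Group H] {f : G →* H} (hf : Function.Surjective f)
    (h : OddMoved H) : OddMoved G := by
  obtain ⟨χ, h1, h2, h3⟩ := h
  have h4 := oddIrr_comp hf (θ := χ) ⟨h1, odd_iff'.1 h2⟩
  refine ⟨_, h4.1, odd_iff'.2 h4.2, fun σ hσ h5 => h3 σ hσ fun g => ?_⟩
  obtain ⟨x, rfl⟩ := hf g
  exact h5 x

/-- a moved character of a perfect group lives on the quotient by a central subgroup of exponent two -/
theorem moved_quot {G : Type u} [Group G] [Finite G] (hG : commutator G = ⊤) {Z : Subgroup G} [Z.Normal]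
    (hZ : Z ≤ Subgroup.center G) (h2 : ∀ z ∈ Z, z * z = 1) (h : OddMoved G) : OddMoved (G ⧸ Z) := by
  obtain ⟨χ, h1, h3, h4⟩ := h
  obtain ⟨χ', rfl⟩ := H774.OQ.factor hG hZ h2 h1 h3
  exact ⟨χ', χ'.2, h3, fun σ hσ h5 => h4 σ hσ fun g => h5 _⟩

theorem idem_eq_zero {V : Type u} [AddCommGroup V] [Module ℂ V] [FiniteDimensional ℂ V] {e : End ℂ V}
    (he : IsIdempotentElem e) (h : LinearMap.trace ℂ V e = 0) : e = 0 :=
  LinearMap.IsIdempotentElem.eq_zero_of_trace_eq_zero he h

variable {F : Type v} [Field F] [Fintype F] {n : ℕ}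

omit [Fintype F] in
theorem sD_add (i : Fin n) (a b : F) : sD i (a + b) = sD i a + sD i b :=
  Subtype.ext (Matrix.single_add i i a b)

omit [Fintype F] in
theorem uu_sD_pow (i : Fin n) (c : F) (k : ℕ) : (uu (sD i c) : Sp n F) ^ k = uu (sD i ((k : F) * c)) := by
  induction k with
  | zero =>
    rw [pow_zero, Nat.cast_zero, zero_mul, ← uu_zero]
    congr 1
    exact Subtype.ext (Matrix.single_zero i i).symm
  | succ k ih => rw [pow_succ, ih, ← uu_add, ← sD_add, Nat.cast_succ, add_mul, one_mul]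

omit [Fintype F] in
theorem dot_sD (i : Fin n) (c : F) (x : Fin n → F) : x ⬝ᵥ ((sD i c).1.mulVec x) = c * (x i * x i) := by
  have h := pr_vec (1 : F) x (sD i c).1
  rw [pr_sD, one_mul, one_smul, Matrix.vecMulVec_apply] at h
  exact h.symm

section

variable {ψ : AddChar F ℂ} {ω : Representation ℂ (Sp n F) (W n F)} (hω : IsWeil ψ 1 ω)

/-- the projection to the functions which vanish outside `x i ^ 2 = a` -/
noncomputable def prj (s : ℂ) (i : Fin n) (a : F) : End ℂ (Es n F s) :=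
  (Fintype.card F : ℂ)⁻¹ • ∑ c : F, ψ (-(c * a)) • hω.srep s (uu (sD i c))

open Classical in
theorem prj_apply (s : ℂ) (i : Fin n) (a : F) (f : Es n F s) (x : Fin n → F) :
    (prj hω s i a f : W n F) x = if x i * x i = a then (f : W n F) x else 0 := by
  have h0 : (Fintype.card F : ℂ) ≠ 0 := Nat.cast_ne_zero.2 Fintype.card_ne_zero
  have h1 : ∀ c : F, ((ψ (-(c * a)) • hω.srep s (uu (sD i c))) f : W n F) x =
      ψ (c * (x i * x i - a)) * (f : W n F) x := by
    intro c
    rw [LinearMap.smul_apply, Submodule.coe_smul, Pi.smul_apply, hω.sub_apply, hω.w1, DS_apply, dot_sD, smul_eq_mul,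
      ← mul_assoc, ← AddChar.map_add_eq_mul]
    congr 2
    ring
  rw [prj, LinearMap.smul_apply, Submodule.coe_smul, Pi.smul_apply, LinearMap.sum_apply, Submodule.coe_sum,
    Finset.sum_apply, Finset.sum_congr rfl fun c _ => h1 c, ← Finset.sum_mul, AddChar.sum_mulShift _ hω.prim,
    smul_eq_mul]
  by_cases h : x i * x i = a
  · rw [if_pos h, if_pos (sub_eq_zero.2 h), ← mul_assoc, inv_mul_cancel₀ h0, one_mul]
  · rw [if_neg h, if_neg (fun e => h (sub_eq_zero.1 e)), Nat.cast_zero, zero_mul, mul_zero]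

theorem prj_idem (s : ℂ) (i : Fin n) (a : F) : IsIdempotentElem (prj hω s i a) := by
  refine LinearMap.ext fun f => Subtype.ext (funext fun x => ?_)
  rw [End.mul_apply, prj_apply, prj_apply]
  split_ifs <;> rfl

theorem trace_prj (s : ℂ) (i : Fin n) (a : F) : LinearMap.trace ℂ _ (prj hω s i a) =
    (Fintype.card F : ℂ)⁻¹ * ∑ c : F, ψ (-(c * a)) * (hω.srep s).character (uu (sD i c)) := by
  rw [prj, map_smul, map_sum, smul_eq_mul]
  congr 1
  exact Finset.sum_congr rfl fun c _ => by rw [map_smul, smul_eq_mul]; rfl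

/-- the values at a transvection and at its square differ -/
theorem exists_ne (hns : ¬ IsSquare (2 : F)) {s : ℂ} (hs : s * s = 1) (i : Fin n) :
    ∃ c : F, (hω.srep s).character (uu (sD i (2 * c))) ≠ (hω.srep s).character (uu (sD i c)) := by
  by_contra hcon
  push Not at hcon
  have h1 : prj hω s i 2 = 0 := by
    refine LinearMap.ext fun f => Subtype.ext (funext fun x => ?_)
    rw [prj_apply, if_neg fun e => hns ⟨x i, e.symm⟩]
    rfl
  have h2 : LinearMap.trace ℂ _ (prj hω s i 1) = LinearMap.trace ℂ _ (prj hω s i 2) := by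
    rw [trace_prj, trace_prj]
    congr 1
    refine (Fintype.sum_equiv (Equiv.mulLeft₀ (2 : F) hω.two) _ _ fun c => ?_).symm
    rw [Equiv.mulLeft₀_apply, hcon, mul_one, mul_comm c]
  rw [h1, map_zero] at h2
  have h3 := idem_eq_zero (prj_idem hω s i 1) h2
  have h4 := prj_apply hω s i 1 ⟨ds s (Pi.single i 1), IsWeil.ds_mem hs _⟩
  refine hω.ds_ne_zero s (Seed.single_ne i 1 one_ne_zero) (funext fun x => ?_)
  by_cases hx : x i * x i = 1
  · have h5 := h4 x
    rw [if_pos hx, h3] at h5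
    exact h5.symm
  · rw [ds, Pi.add_apply, Pi.smul_apply, dl_ne, dl_ne, smul_zero, add_zero]
    · rfl
    · rintro rfl
      simp at hx
    · rintro rfl
      simp at hx

end

omit [Fintype F] in
theorem two_ne_of_not_sq (hns : ¬ IsSquare (2 : F)) : (2 : F) ≠ 0 := fun h => hns (by rw [h]; exact IsSquare.zero)

theorem odd_card (h2 : (2 : F) ≠ 0) : Odd (Fintype.card F) := by
  refine Nat.odd_iff.2 (FiniteField.odd_card_of_char_ne_two fun h => h2 ?_)
  have h0 := ringChar.Nat.cast_ringChar (R := F)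
  rw [h] at h0
  exact_mod_cast h0

/-- **a moved Weil character** -/
theorem moved_sp (hns : ¬ IsSquare (2 : F)) (i : Fin n) : OddMoved (Sp n F) := by
  have h2 := two_ne_of_not_sq hns
  have hψ := AddChar.FiniteField.primitiveChar_to_Complex_isPrimitive F
  obtain ⟨ω, w1, w2, w3, w4⟩ := exists_weil (n := n) hψ h2 one_ne_zero i
  have hω : IsWeil _ 1 ω := ⟨hψ, h2, one_ne_zero, w1, w2, w3, w4⟩
  obtain ⟨s, hs, hodd⟩ : ∃ s : ℂ, (s = 1 ∨ s = -1) ∧ Odd (finrank ℂ (Es n F s)) := by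
    rcases Nat.even_or_odd (finrank ℂ (Es n F (-1))) with h | h
    · exact ⟨1, .inl rfl, by rw [finrank_even_eq h2]; exact h.add_one⟩
    · exact ⟨-1, .inr rfl, h⟩
  have hs2 : s * s = 1 := by rcases hs with rfl | rfl <;> norm_num
  have hχ := Core.isIrrCharacter_of_rep _ (hω.sub_irr hs i)
  refine ⟨_, hχ, ?_, fun σ hσ h => ?_⟩
  · have h1 := Blocks.Basic.irr_one_eq_charDegree hχ
    rw [Representation.char_one] at h1
    rwa [← Nat.cast_injective h1]
  · obtain ⟨c, hc⟩ := exists_ne hω hns hs2 i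
    have h1 : Odd (orderOf (uu (sD i c) : Sp n F)) := by
      refine Odd.of_dvd_nat (odd_card h2) (orderOf_dvd_of_pow_eq_one ?_)
      rw [uu_sD_pow, FiniteField.cast_card_eq_zero, ← Nat.cast_zero, ← uu_sD_pow, pow_zero]
    have h3 := map_odd hσ (Core.isIrr_isCharacter hχ) h1
    rw [h _, uu_sD_pow, Nat.cast_ofNat] at h3
    exact hc h3.symm

omit [Fintype F] in
theorem center_sq {z : Sp n F} (hz : z ∈ Subgroup.center (Sp n F)) : z * z = 1 := by
  apply Subtype.ext
  rw [Submonoid.coe_mul]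
  rcases ClassicalGeometry.SympInvolutions.center_eq hz with h | h <;> rw [h] <;> simp

theorem moved_psp' (hns : ¬ IsSquare (2 : F)) (h1 : 1 ≤ n)
    (h : 3 ≤ n ∨ (n = 2 ∧ 3 ≤ Fintype.card F) ∨ 4 ≤ Fintype.card F) : OddMoved (PSp n F) :=
  moved_quot (LieClassical.SympPerfect.commutator_eq_top h) le_rfl (fun _ => center_sq) (moved_sp hns ⟨0, h1⟩)

theorem not_sq_of (h8 : Fintype.card F % 8 = 3 ∨ Fintype.card F % 8 = 5) : ¬ IsSquare (2 : F) := by
  rw [FiniteField.isSquare_two_iff]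
  omega

/-- **`PSp_{2n}(q)`, `q ≡ ±3 mod 8`** -/
theorem moved_psp (h8 : Fintype.card F % 8 = 3 ∨ Fintype.card F % 8 = 5) (hn : 2 ≤ n) : OddMoved (PSp n F) :=
  moved_psp' (not_sq_of h8) (by omega) (by omega)

/-- **`L₂(q)`, `q ≡ ±3 mod 8`** -/
theorem moved_psl {F : Type} [Field F] [Fintype F] (h8 : Fintype.card F % 8 = 3 ∨ Fintype.card F % 8 = 5)
    (h4 : 4 ≤ Fintype.card F) : OddMoved (Matrix.ProjectiveSpecialLinearGroup (Fin 2) F) :=
  moved_of_surj (f := (H451.Tor.pspOne F).symm.toMonoidHom) (H451.Tor.pspOne F).symm.surjective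
    (moved_psp' (not_sq_of h8) le_rfl (.inr (.inr h4)))

end Cfsg.Agent.GAL.TS
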